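import Mathlib

/-!
Smooth algebras over a field are reduced.
-/

set_option autoImplicit false

namespace Groth.Agent.AGFHull

open TensorProduct

universe u

theorem isReduced_of_etale_domain (P S : Type u) [CommRing P] [IsDomain P] [CommRing S] [Algebra P S]
    [Algebra.Etale P S] : IsReduced S := by
  let K := FractionRing P
  have hflat : Module.Flat P S := inferInstance
  have hinj : Function.Injective (Algebra.TensorProduct.includeRight : S →ₐ[P] K ⊗[P] S) := by
    intro a b h
    have h2 := Module.Flat.rTensor_preserves_injective_linearMap (M := S) (Algebra.linearMap P K)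
      (IsFractionRing.injective P K)
    have h3 : LinearMap.rTensor S (Algebra.linearMap P K) ((1 : P) ⊗ₜ a) =
        LinearMap.rTensor S (Algebra.linearMap P K) ((1 : P) ⊗ₜ b) := by simpa using h
    simpa using congrArg (TensorProduct.lid P S) (h2 h3)
  have : IsReduced (K ⊗[P] S) := Algebra.FormallyUnramified.isReduced_of_field K _
  exact isReduced_of_injective (Algebra.TensorProduct.includeRight : S →ₐ[P] K ⊗[P] S) hinj

theorem isReduced_of_smooth (k S : Type u) [Field k] [CommRing S] [Algebra k S] [Algebra.Smooth k S] :
    IsReduced S := by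
  obtain ⟨s, hs, h⟩ := Algebra.Smooth.exists_span_eq_top_isStandardSmooth k S
  refine ⟨fun x hx => ?_⟩
  have hloc : ∀ f ∈ s, algebraMap S (Localization.Away f) x = 0 := by
    intro f hf
    obtain ⟨n, g, -, hg⟩ := RingHom.IsStandardSmooth.exists_etale_mvPolynomial
      (f := algebraMap k (Localization.Away f)) (RingHom.isStandardSmooth_algebraMap.2 (h f hf))
    algebraize [g]
    have : IsReduced (Localization.Away f) := isReduced_of_etale_domain (MvPolynomial (Fin n) k) _
    exact (hx.map (algebraMap S (Localization.Away f))).eq_zero
  have hann : Ideal.span s ≤ (Submodule.span S {x}).annihilator.radical := by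
    rw [Ideal.span_le]
    intro f hf
    obtain ⟨⟨_, m, rfl⟩, hm⟩ := (IsLocalization.map_eq_zero_iff (Submonoid.powers f) _ _).mp (hloc f hf)
    exact ⟨m, (Submodule.mem_annihilator_span_singleton _ _).mpr hm⟩
  rw [hs, top_le_iff, Ideal.radical_eq_top] at hann
  have h1 : (1 : S) ∈ (Submodule.span S {x}).annihilator := hann ▸ Submodule.mem_top
  simpa using (Submodule.mem_annihilator_span_singleton _ _).mp h1

end Groth.Agent.AGFHull
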