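import Groth.Agent.AGFLang.Basic
import Groth.Agent.AGFHull.Reduced
import Groth.Prelude.Def_W4bk4grossh111Obs

/-!
The image of `G` in the spectrum of a finitely generated ring of right invariants.
-/

set_option autoImplicit false

universe u

noncomputable section

open CategoryTheory MonoidalCategory CartesianMonoidalCategory MonObj GrpObj AlgebraicGeometry
open scoped TensorProduct
open Groth.Agent.AGFPoints.Basic Groth.Agent.AGFLang

namespace Groth.Agent.AGFHull

variable {k : Type u} [Field k] {G : Over (Spec (CommRingCat.of k))} [GrpObj G] [IsAffine G.left]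
  {H : Over (Spec (CommRingCat.of k))} [IsAffine H.left] (i : H ⟶ G)

/-- the invariant ring as a subalgebra -/
def invAlg : Subalgebra k (Coord G) where
  carrier := {f | f ∈ AGF.rTransInv i}
  mul_mem' := fun ha hb => (AGF.rTransInv i).mul_mem ha hb
  add_mem' := fun ha hb => (AGF.rTransInv i).add_mem ha hb
  algebraMap_mem' c := (isRTransInv_iff i _).mpr fun B _ _ x t => by
    rw [show val (x * (t ≫ i)) (algebraMap k (Coord G) c) = _ from (valHom (x * (t ≫ i))).commutes c]
    exact ((valHom x).commutes c).symm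

theorem mem_invAlg {f : Coord G} : f ∈ invAlg i ↔ ∀ (B : Type u) [CommRing B] [Algebra k B]
    (x : VecGrp.pt k B ⟶ G) (t : VecGrp.pt k B ⟶ H), valHom (x * (t ≫ i)) f = valHom x f :=
  isRTransInv_iff i f

/-- left translation by a rational point -/
def ltr (g : VecGrp.pt k k ⟶ G) : Coord G →ₐ[k] Coord G :=
  valHom ((VecGrp.ptMap (Algebra.ofId k (Coord G)) ≫ g) * uPt G)

theorem comp_ltr {B : Type u} [CommRing B] [Algebra k B] (g : VecGrp.pt k k ⟶ G)
    (φ : Coord G →ₐ[k] B) :
    φ.comp (ltr g) = valHom ((VecGrp.ptMap (Algebra.ofId k B) ≫ g) * ofHom φ) := by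
  rw [ltr, ← valHom_ptMap, MonObj.comp_mul, ← Category.assoc, ← ptMap_comp]
  rw [show φ.comp (Algebra.ofId k (Coord G)) = Algebra.ofId k B from Subsingleton.elim _ _]
  rfl

theorem ltr_ltr (g h : VecGrp.pt k k ⟶ G) (f : Coord G) : ltr g (ltr h f) = ltr (h * g) f := by
  have h1 := DFunLike.congr_fun (comp_ltr h (ltr g)) f
  rw [AlgHom.comp_apply] at h1
  rw [h1, ltr, ofHom_valHom, ltr, MonObj.comp_mul, _root_.mul_assoc]

theorem ltr_one (f : Coord G) : ltr (1 : VecGrp.pt k k ⟶ G) f = f := by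
  rw [ltr, MonObj.comp_one, _root_.one_mul]
  exact val_uPt f

/-- left translation as an automorphism -/
def ltrEquiv (g : VecGrp.pt k k ⟶ G) : Coord G ≃ₐ[k] Coord G :=
  AlgEquiv.ofAlgHom (ltr g) (ltr g⁻¹)
    (AlgHom.ext fun f => by rw [AlgHom.comp_apply, ltr_ltr, inv_mul_cancel, ltr_one]; rfl)
    (AlgHom.ext fun f => by rw [AlgHom.comp_apply, ltr_ltr, mul_inv_cancel, ltr_one]; rfl)

theorem ltr_mem (g : VecGrp.pt k k ⟶ G) {f : Coord G} (hf : f ∈ invAlg i) : ltr g f ∈ invAlg i := by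
  rw [mem_invAlg] at hf ⊢
  intro B _ _ x t
  have h1 : ∀ y : VecGrp.pt k B ⟶ G, valHom y (ltr g f)
      = valHom ((VecGrp.ptMap (Algebra.ofId k B) ≫ g) * y) f := fun y => by
    rw [← AlgHom.comp_apply, comp_ltr, ofHom_valHom]
  rw [h1, h1, ← _root_.mul_assoc]
  exact hf B _ t

theorem comp_ltrInv (g : VecGrp.pt k k ⟶ G) (z : VecGrp.pt k k ⟶ G) :
    (valHom z).comp (ltr g) = valHom (g * z) := by
  rw [comp_ltr, ofHom_valHom]
  congr 1
  rw [show Algebra.ofId k k = AlgHom.id k k from Subsingleton.elim _ _, ptMap_id, Category.id_comp]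

/-- left translation on the spectrum of invariants -/
def ltrInv (g : VecGrp.pt k k ⟶ G) : invAlg i →ₐ[k] invAlg i :=
  ((ltr g).comp (invAlg i).val).codRestrict _ fun f => ltr_mem i g f.2

theorem comap_ltrInv_val (g : VecGrp.pt k k ⟶ G) (P : PrimeSpectrum (Coord G)) :
    PrimeSpectrum.comap (ltrInv i g).toRingHom (PrimeSpectrum.comap (invAlg i).val.toRingHom P) =
      PrimeSpectrum.comap (invAlg i).val.toRingHom (PrimeSpectrum.comap (ltr g).toRingHom P) := rfl

variable [IsAlgClosed k] [Smooth G.hom]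

theorem smooth_coord : Algebra.Smooth k (Coord G) := by
  have h := (HasRingHomProperty.iff_of_isAffine (P := @Smooth) (f := G.hom)).mp inferInstance
  exact (RingHom.Smooth.propertyIsLocal.respectsIso).2 G.hom.appTop.hom
    (Scheme.ΓSpecIso (CommRingCat.of k)).symm.commRingCatIsoToRingEquiv h

/-- closed points are rational -/
theorem exists_point {m : Ideal (Coord G)} [hm : m.IsMaximal] :
    ∃ z : VecGrp.pt k k ⟶ G, RingHom.ker (valHom z) = m := by
  have : Algebra.Smooth k (Coord G) := smooth_coord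
  letI := Ideal.Quotient.field m
  have : Module.Finite k (Coord G ⧸ m) := finite_of_finite_type_of_isJacobsonRing k _
  refine ⟨ofHom ((IsAlgClosed.lift : (Coord G ⧸ m) →ₐ[k] k).comp (Ideal.Quotient.mkₐ k m)), ?_⟩
  rw [valHom_ofHom]
  exact (RingHom.ker_comp_of_injective _ (IsAlgClosed.lift : (Coord G ⧸ m) →ₐ[k] k).toRingHom.injective).trans
    Ideal.mk_ker

/-- two closed points are related by a translation -/
theorem exists_ltr (m m' : Ideal (Coord G)) [hm : m.IsMaximal] [hm' : m'.IsMaximal] :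
    ∃ g : VecGrp.pt k k ⟶ G, m.comap (ltr g).toRingHom = m' := by
  obtain ⟨z, hz⟩ := exists_point (m := m)
  obtain ⟨z', hz'⟩ := exists_point (m := m')
  refine ⟨z' * z⁻¹, ?_⟩
  rw [← hz, ← hz']
  ext a
  show valHom z (ltr (z' * z⁻¹) a) = 0 ↔ valHom z' a = 0
  rw [← AlgHom.comp_apply, comp_ltrInv, inv_mul_cancel_right]

variable [Algebra.FiniteType k (invAlg i)]

/-- the map to the spectrum of invariants -/
def φ : PrimeSpectrum (Coord G) → PrimeSpectrum (invAlg i) :=
  PrimeSpectrum.comap (invAlg i).val.toRingHom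

theorem isNoetherianRing_inv : IsNoetherianRing (invAlg i) :=
  Algebra.FiniteType.isNoetherianRing k _

theorem isReduced_coord : _root_.IsReduced (Coord G) := by
  have : Algebra.Smooth k (Coord G) := smooth_coord
  exact isReduced_of_smooth k _

theorem isReduced_inv : _root_.IsReduced (invAlg i) := by
  have := isReduced_coord (G := G)
  exact isReduced_of_injective (invAlg i).val Subtype.val_injective

theorem minimal_mem_range {q : Ideal (invAlg i)} (hq : q ∈ minimalPrimes (invAlg i)) :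
    ∃ P : PrimeSpectrum (Coord G), φ i P = ⟨q, hq.isPrime⟩ := by
  obtain ⟨P, hP, hPq⟩ := Ideal.exists_comap_eq_of_mem_minimalPrimes_of_injective
    (f := (invAlg i).val.toRingHom) Subtype.val_injective q hq
  exact ⟨⟨P, hP⟩, PrimeSpectrum.ext hPq⟩

theorem interior_range_nonempty [Nontrivial (Coord G)] : (interior (Set.range (φ i))).Nonempty := by
  classical
  have := isNoetherianRing_inv i
  have := isReduced_inv i
  have : Algebra.Smooth k (Coord G) := smooth_coord
  have hfp : RingHom.FinitePresentation (invAlg i).val.toRingHom := by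
    let _ := (invAlg i).val.toRingHom.toAlgebra
    have : IsScalarTower k (invAlg i) (Coord G) := .of_algebraMap_eq' rfl
    have : Algebra.FiniteType (invAlg i) (Coord G) := .of_restrictScalars_finiteType k _ _
    exact Algebra.FinitePresentation.of_finiteType.mp this
  have hc : Topology.IsConstructible (Set.range (φ i)) := PrimeSpectrum.isConstructible_range_comap hfp
  obtain ⟨D, hD⟩ := PrimeSpectrum.exists_constructibleSetData_iff.mpr hc
  have hn : (minimalPrimes (invAlg i)).Nonempty := by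
    obtain ⟨m, hm⟩ := Ideal.exists_maximal (invAlg i)
    have := hm.isPrime
    obtain ⟨q, hq, -⟩ := Ideal.exists_minimalPrimes_le (I := (⊥ : Ideal (invAlg i))) (J := m) bot_le
    exact ⟨q, hq⟩
  obtain ⟨q, hq⟩ := hn
  have hη : (⟨q, hq.isPrime⟩ : PrimeSpectrum (invAlg i)) ∈ Set.range (φ i) :=
    minimal_mem_range i hq
  rw [← hD] at hη
  simp only [PrimeSpectrum.ConstructibleSetData.toSet, Set.mem_iUnion, exists_prop] at hη
  obtain ⟨C, hC, hCη⟩ := hη
  have hfin := minimalPrimes.finite_of_isNoetherianRing (invAlg i)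
  let others := hfin.toFinset.filter (· ≠ q)
  have hh : ∃ h ∉ q, ∀ q' ∈ others, h ∈ q' := by
    have : ¬ others.inf id ≤ q := by
      rw [hq.isPrime.inf_le']
      rintro ⟨q', hq', hle⟩
      simp only [others, Finset.mem_filter, Set.Finite.mem_toFinset] at hq'
      exact hq'.2 ((hq.2 hq'.1.1 hle).antisymm hle).symm
    obtain ⟨h, hh1, hh2⟩ := SetLike.not_le_iff_exists.mp this
    exact ⟨h, hh2, fun q' hq' => Finset.inf_le (f := id) hq' hh1⟩
  obtain ⟨h, hhq, hh⟩ := hh
  refine ⟨⟨q, hq.isPrime⟩, mem_interior.mpr ⟨PrimeSpectrum.basicOpen (C.f * h), ?_,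
    (PrimeSpectrum.basicOpen _).2, ?_⟩⟩
  · intro p hp
    rw [← hD]
    refine Set.mem_biUnion hC ⟨?_, ?_⟩
    · rw [PrimeSpectrum.mem_zeroLocus]
      rintro _ ⟨j, rfl⟩
      have hgq : C.g j ∈ q := (PrimeSpectrum.mem_zeroLocus _ _).mp hCη.1 ⟨j, rfl⟩
      have h0 : h * C.g j = 0 := by
        apply eq_zero_of_mem_minimalPrimes
        intro q' hq'
        by_cases hqq : q' = q
        · exact hqq ▸ q.mul_mem_left h hgq
        · exact q'.mul_mem_right _ (hh q' (by simp [others, hq', hqq]))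
      have hph : h ∉ p.asIdeal := fun hmem => hp (p.asIdeal.mul_mem_left _ hmem)
      exact (p.isPrime.mem_or_mem (h0 ▸ p.asIdeal.zero_mem)).resolve_left hph
    · rw [PrimeSpectrum.mem_zeroLocus, Set.singleton_subset_iff]
      exact fun hmem => hp (p.asIdeal.mul_mem_right _ hmem)
  · have hfq : C.f ∉ q := fun hmem => hCη.2 (by
      rw [PrimeSpectrum.mem_zeroLocus, Set.singleton_subset_iff]; exact hmem)
    exact fun hmem => (hq.isPrime.mem_or_mem hmem).elim hfq hhq
where
  eq_zero_of_mem_minimalPrimes {a : invAlg i}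
      (ha : ∀ q' ∈ minimalPrimes (invAlg i), a ∈ q') : a = 0 := by
    have := isReduced_inv i
    have h1 : a ∈ (⊥ : Ideal (invAlg i)).radical := by
      rw [← Ideal.sInf_minimalPrimes, Ideal.mem_sInf]
      exact fun {q'} hq' => ha q' hq'
    obtain ⟨n, hn⟩ := h1
    exact IsNilpotent.eq_zero ⟨n, hn⟩

theorem ltrInv_range_subset (g : VecGrp.pt k k ⟶ G) :
    Set.range (φ i) ⊆ PrimeSpectrum.comap (ltrInv i g).toRingHom ⁻¹' Set.range (φ i) := by
  rintro _ ⟨P, rfl⟩
  exact ⟨PrimeSpectrum.comap (ltr g).toRingHom P, (comap_ltrInv_val i g P).symm⟩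

theorem range_ltrInv (g : VecGrp.pt k k ⟶ G) :
    PrimeSpectrum.comap (ltrInv i g).toRingHom ⁻¹' Set.range (φ i) = Set.range (φ i) := by
  refine Set.Subset.antisymm ?_ (ltrInv_range_subset i g)
  rintro x ⟨P, hP⟩
  refine ⟨PrimeSpectrum.comap (ltr g⁻¹).toRingHom P, ?_⟩
  rw [φ, ← comap_ltrInv_val]
  rw [show PrimeSpectrum.comap (invAlg i).val.toRingHom P
    = PrimeSpectrum.comap (ltrInv i g).toRingHom x from hP]
  rw [← PrimeSpectrum.comap_comp_apply]
  refine Eq.trans ?_ (congrFun PrimeSpectrum.comap_id x)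
  congr 1
  exact RingHom.ext fun f => Subtype.ext ((ltr_ltr g g⁻¹ f).trans (by rw [inv_mul_cancel, ltr_one]; rfl))

theorem isOpen_range [Nontrivial (Coord G)] : IsOpen (Set.range (φ i)) := by
  have : Algebra.Smooth k (Coord G) := smooth_coord
  have : IsJacobsonRing (Coord G) := isJacobsonRing_of_finiteType (A := k)
  rw [← interior_eq_iff_isOpen]
  refine interior_subset.antisymm ?_
  let T := φ i ⁻¹' interior (Set.range (φ i))
  have hT : IsOpen T := isOpen_interior.preimage (PrimeSpectrum.continuous_comap _)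
  have hTne : T.Nonempty := by
    obtain ⟨x, hx⟩ := interior_range_nonempty i
    obtain ⟨P, rfl⟩ := interior_subset hx
    exact ⟨P, hx⟩
  obtain ⟨x₀, hx₀, hx₀c⟩ := PrimeSpectrum.exists_isClosed_singleton_of_isJacobsonRing T hT hTne
  have hx₀m : x₀.asIdeal.IsMaximal := (PrimeSpectrum.isClosed_singleton_iff_isMaximal _).mp hx₀c
  rintro _ ⟨P, rfl⟩
  obtain ⟨m, hm, hPm⟩ := Ideal.exists_le_maximal P.asIdeal P.2.ne_top
  suffices hmT : (⟨m, hm.isPrime⟩ : PrimeSpectrum (Coord G)) ∈ T from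
    ((PrimeSpectrum.le_iff_specializes P ⟨m, hm.isPrime⟩).mp hPm).mem_open hT hmT
  obtain ⟨g, hg⟩ := exists_ltr m x₀.asIdeal
  show φ i ⟨m, hm.isPrime⟩ ∈ interior (Set.range (φ i))
  rw [← range_ltrInv i g]
  refine preimage_interior_subset_interior_preimage (PrimeSpectrum.continuous_comap _) ?_
  show PrimeSpectrum.comap (ltrInv i g).toRingHom (φ i ⟨m, hm.isPrime⟩) ∈ interior (Set.range (φ i))
  rw [φ, comap_ltrInv_val]
  exact (show PrimeSpectrum.comap (ltr g).toRingHom ⟨m, hm.isPrime⟩ = x₀ from PrimeSpectrum.ext hg) ▸ hx₀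

/-- minimal primes go to minimal primes -/
theorem comap_mem_minimalPrimes [Nontrivial (Coord G)] {P : Ideal (Coord G)}
    (hP : P ∈ minimalPrimes (Coord G)) :
    P.comap (invAlg i).val.toRingHom ∈ minimalPrimes (invAlg i) := by
  classical
  have : Algebra.Smooth k (Coord G) := smooth_coord
  have : IsJacobsonRing (Coord G) := isJacobsonRing_of_finiteType (A := k)
  have : IsNoetherianRing (Coord G) := Algebra.FiniteType.isNoetherianRing k _
  have hnq : (minimalPrimes (invAlg i)).Nonempty := by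
    have := hP.isPrime
    obtain ⟨q, hq, -⟩ := Ideal.exists_minimalPrimes_le (I := (⊥ : Ideal (invAlg i)))
      (J := P.comap (invAlg i).val.toRingHom) bot_le
    exact ⟨q, hq⟩
  obtain ⟨q, hq⟩ := hnq
  obtain ⟨P₀, hP₀⟩ := minimal_mem_range i hq
  obtain ⟨P₁, hP₁, hP₁le⟩ := Ideal.exists_minimalPrimes_le (I := (⊥ : Ideal (Coord G))) (J := P₀.asIdeal) bot_le
  have hq₁ : P₁.comap (invAlg i).val.toRingHom = q := by
    have hle : P₁.comap (invAlg i).val.toRingHom ≤ q :=
      (Ideal.comap_mono hP₁le).trans (congrArg PrimeSpectrum.asIdeal hP₀).le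
    exact hle.antisymm (hq.2 ⟨hP₁.isPrime.comap _, bot_le⟩ hle)
  -- a closed point on no other component
  have hfin := minimalPrimes.finite_of_isNoetherianRing (Coord G)
  let W : Set (PrimeSpectrum (Coord G)) :=
    (⋃ Q ∈ hfin.toFinset.filter (· ≠ P₁), PrimeSpectrum.zeroLocus (Q : Set (Coord G)))ᶜ
  have hW : IsOpen W := (isClosed_biUnion_finset fun Q _ => PrimeSpectrum.isClosed_zeroLocus _).isOpen_compl
  have hP₁W : (⟨P₁, hP₁.isPrime⟩ : PrimeSpectrum (Coord G)) ∈ W := by
    simp only [W, Set.mem_compl_iff, Set.mem_iUnion, PrimeSpectrum.mem_zeroLocus, not_exists,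
      Finset.mem_filter, Set.Finite.mem_toFinset]
    exact fun Q hQ hle => hQ.2 ((show Q ≤ P₁ from hle).antisymm (hP₁.2 hQ.1.1 hle))
  obtain ⟨x₁, hx₁, hx₁c⟩ := PrimeSpectrum.exists_isClosed_singleton_of_isJacobsonRing W hW ⟨_, hP₁W⟩
  have : x₁.asIdeal.IsMaximal := (PrimeSpectrum.isClosed_singleton_iff_isMaximal _).mp hx₁c
  obtain ⟨m, hm, hPm⟩ := Ideal.exists_le_maximal P hP.isPrime.ne_top
  obtain ⟨g, hg⟩ := exists_ltr m x₁.asIdeal
  have hgP : P.comap (ltr g).toRingHom = P₁ := by
    have hpr : (P.comap (ltr g).toRingHom).IsPrime := hP.isPrime.comap _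
    have hle : P.comap (ltr g).toRingHom ≤ x₁.asIdeal := hg ▸ Ideal.comap_mono hPm
    have hmin : P.comap (ltr g).toRingHom ∈ minimalPrimes (Coord G) := by
      refine ⟨⟨hpr, bot_le⟩, fun Q hQ hQle => ?_⟩
      have h1 : Q.comap (ltr g⁻¹).toRingHom ≤ P := by
        intro a ha
        have h2 : ltr g (ltr g⁻¹ a) ∈ P := hQle ha
        rwa [ltr_ltr, inv_mul_cancel, ltr_one] at h2
      intro a ha
      have h3 := hP.2 ⟨hQ.1.comap _, bot_le⟩ h1 ha
      have h4 : ltr g⁻¹ (ltr g a) ∈ Q := h3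
      rwa [ltr_ltr, mul_inv_cancel, ltr_one] at h4
    by_contra hne
    exact hx₁ (Set.mem_biUnion (Finset.mem_filter.mpr ⟨hfin.mem_toFinset.mpr hmin, hne⟩)
      ((PrimeSpectrum.mem_zeroLocus _ _).mpr hle))
  have hkey : (P.comap (invAlg i).val.toRingHom).comap (ltrInv i g).toRingHom = q := by
    rw [← hq₁, ← hgP]; rfl
  refine ⟨⟨hP.isPrime.comap _, bot_le⟩, fun Q hQ hQle => ?_⟩
  intro a ha
  have hQ2 : q ≤ Q.comap (ltrInv i g).toRingHom :=
    hq.2 ⟨hQ.1.comap _, bot_le⟩ (hkey ▸ Ideal.comap_mono hQle)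
  have hback : ∀ b : invAlg i, ltrInv i g (ltrInv i g⁻¹ b) = b := fun b =>
    Subtype.ext ((ltr_ltr g g⁻¹ b).trans (by rw [inv_mul_cancel, ltr_one]))
  have h5 : ltrInv i g⁻¹ a ∈ q := by
    rw [← hkey]
    show ltrInv i g (ltrInv i g⁻¹ a) ∈ P.comap (invAlg i).val.toRingHom
    rwa [hback]
  have h6 : ltrInv i g (ltrInv i g⁻¹ a) ∈ Q := hQ2 h5
  rwa [hback] at h6

/-- multiplication by an element of no minimal prime reflects invariance -/
theorem mem_invAlg_of_mul [Nontrivial (Coord G)] {a b : invAlg i} {f : Coord G}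
    (ha : ∀ q ∈ minimalPrimes (invAlg i), a ∉ q) (hb : (b : Coord G) = (a : Coord G) * f) :
    f ∈ invAlg i := by
  have := isReduced_coord (G := G)
  have ha' : IsSMulRegular (Coord G) (a : Coord G) := by
    have hnz : ∀ x : Coord G, x * (a : Coord G) = 0 → x = 0 := by
      intro x hx
      have h1 : x ∈ (⊥ : Ideal (Coord G)).radical := by
        rw [← Ideal.sInf_minimalPrimes, Ideal.mem_sInf]
        intro Q hQ
        exact (hQ.isPrime.mem_or_mem (hx ▸ Q.zero_mem)).resolve_right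
          (ha _ (comap_mem_minimalPrimes i hQ))
      obtain ⟨n, hn⟩ := h1
      exact IsNilpotent.eq_zero ⟨n, hn⟩
    intro u v huv
    exact sub_eq_zero.mp (hnz _ (by
      rw [mul_comm, mul_sub, sub_eq_zero]
      exact huv))
  let R₂ := Coord G ⊗[k] Coord H
  let x : VecGrp.pt k R₂ ⟶ G := ofHom (Algebra.TensorProduct.includeLeft)
  let t : VecGrp.pt k R₂ ⟶ H := ofHom (Algebra.TensorProduct.includeRight)
  have hu : valHom (x * (t ≫ i)) f = valHom x f := by
    have h1 := (mem_invAlg i).mp b.2 R₂ x t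
    rw [hb, map_mul, map_mul, (mem_invAlg i).mp a.2 R₂ x t] at h1
    have hx : valHom x = (Algebra.TensorProduct.includeLeft : Coord G →ₐ[k] R₂) := valHom_ofHom _
    have hr : IsSMulRegular R₂ (a : Coord G) := by
      have hinj : Function.Injective (LinearMap.rTensor (Coord H) (LinearMap.mulLeft k (a : Coord G))) :=
        Module.Flat.rTensor_preserves_injective_linearMap _ fun u v h => ha' h
      intro u v huv
      have he : ∀ w : R₂, (a : Coord G) • w = LinearMap.rTensor (Coord H) (LinearMap.mulLeft k (a : Coord G)) w := by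
        intro w
        induction w using TensorProduct.induction_on with
        | zero => simp
        | tmul r c =>
          rw [LinearMap.rTensor_tmul, LinearMap.mulLeft_apply, TensorProduct.smul_tmul']
          rfl
        | add w w' hw hw' => simp [smul_add, hw, hw']
      exact hinj (by rw [← he, ← he]; exact huv)
    refine hr ?_
    show (a : Coord G) • _ = (a : Coord G) • _
    rw [Algebra.smul_def, Algebra.smul_def]
    rw [hx] at h1 ⊢
    exact h1
  rw [mem_invAlg]
  intro B _ _ x' t'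
  let χ : R₂ →ₐ[k] B := Algebra.TensorProduct.lift (valHom x') (valHom t') fun _ _ => Commute.all _ _
  have h2 := congrArg χ hu
  rw [← AlgHom.comp_apply, ← AlgHom.comp_apply, ← valHom_ptMap, ← valHom_ptMap, MonObj.comp_mul,
    ← Category.assoc] at h2
  have e1 : VecGrp.ptMap χ ≫ x = x' := valHom_inj (by
    rw [valHom_ptMap, valHom_ofHom]; exact Algebra.TensorProduct.lift_comp_includeLeft _ _ fun _ _ => Commute.all _ _)
  have e2 : VecGrp.ptMap χ ≫ t = t' := valHom_inj (by
    rw [valHom_ptMap, valHom_ofHom]; exact Algebra.TensorProduct.lift_comp_includeRight _ _ fun _ _ => Commute.all _ _)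
  rwa [e1, e2] at h2

theorem two_le_height [Nontrivial (Coord G)] (p : PrimeSpectrum (invAlg i))
    (hp : p ∉ Set.range (φ i)) : (2 : ℕ∞) ≤ p.asIdeal.height := by
  classical
  have := isNoetherianRing_inv i
  obtain ⟨I, hI⟩ := (PrimeSpectrum.isClosed_iff_zeroLocus_ideal _).mp (isOpen_range i).isClosed_compl
  have hIp : I ≤ p.asIdeal := by
    have h : p ∈ (Set.range (φ i))ᶜ := hp
    rw [hI] at h
    exact h
  have hIq : ∀ P : PrimeSpectrum (Coord G), ¬ I ≤ (φ i P).asIdeal := fun P h => by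
    have h' : φ i P ∈ PrimeSpectrum.zeroLocus (I : Set (invAlg i)) := h
    rw [← hI] at h'
    exact h' ⟨P, rfl⟩
  have hfin := minimalPrimes.finite_of_isNoetherianRing (invAlg i)
  obtain ⟨a, haI, ha⟩ : ∃ a ∈ I, ∀ q ∈ minimalPrimes (invAlg i), a ∉ q := by
    by_contra hcon
    push Not at hcon
    have hsub : (I : Set (invAlg i)) ⊆ ⋃ q ∈ (↑hfin.toFinset : Set (Ideal (invAlg i))), (q : Set (invAlg i)) := by
      intro a ha
      obtain ⟨q, hq, haq⟩ := hcon a ha
      exact Set.mem_biUnion (hfin.mem_toFinset.mpr hq) haq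
    obtain ⟨q, hq, hle⟩ := (Ideal.subset_union_prime ⊥ ⊥ fun q hq _ _ =>
      (hfin.mem_toFinset.mp hq).isPrime).mp hsub
    obtain ⟨P, hP⟩ := minimal_mem_range i (hfin.mem_toFinset.mp hq)
    exact hIq P (by rw [hP]; exact hle)
  by_contra hlt
  rw [not_le] at hlt
  have hht1 : p.asIdeal.height ≤ 1 := Order.le_of_lt_add_one hlt
  have hmin : p.asIdeal ∈ (Ideal.span {a}).minimalPrimes := by
    refine ⟨⟨p.2, (Ideal.span_singleton_le_iff_mem _).mpr (hIp haI)⟩, fun Q hQ hQle => ?_⟩
    by_contra hne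
    have hlt' : Q < p.asIdeal := lt_of_le_of_ne hQle fun e => hne e.ge
    have := hQ.1
    have : Q.height = 0 := by
      have h1 := Ideal.height_strict_mono_of_isPrime hlt'
      exact Order.lt_one_iff.mp (h1.trans_le hht1)
    have hQmin : Q ∈ minimalPrimes (invAlg i) :=
      Ideal.height_eq_zero_iff.mp this
    exact ha Q hQmin (hQ.2 (Ideal.mem_span_singleton_self a))
  have hass : p.asIdeal ∈ associatedPrimes (invAlg i) (invAlg i ⧸ Ideal.span {a}) :=
    Module.associatedPrimes.minimalPrimes_annihilator_subset_associatedPrimes _ _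
      (by rwa [Ideal.annihilator_quotient])
  obtain ⟨-, bq, hbq⟩ := isAssociatedPrime_iff.mp hass
  obtain ⟨b, rfl⟩ := Ideal.Quotient.mk_surjective bq
  have hmem : ∀ c, c ∈ p.asIdeal ↔ c * b ∈ Ideal.span {a} := by
    intro c
    rw [hbq, Submodule.mem_colon_singleton, Submodule.mem_bot, ← Ideal.Quotient.eq_zero_iff_mem]
    rfl
  let J : Ideal (Coord G) := (Ideal.span {(a : Coord G)}).colon {(b : Coord G)}
  have hJ : J = ⊤ := by
    by_contra hne
    obtain ⟨P, hP, hJP⟩ := Ideal.exists_le_maximal J hne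
    obtain ⟨c, hcI, hc⟩ := SetLike.not_le_iff_exists.mp (hIq ⟨P, hP.isPrime⟩)
    apply hc
    apply hJP
    rw [Submodule.mem_colon_singleton, smul_eq_mul]
    obtain ⟨d, hd⟩ := Ideal.mem_span_singleton'.mp ((hmem c).mp (hIp hcI))
    exact Ideal.mem_span_singleton'.mpr ⟨d, congrArg Subtype.val hd⟩
  have h1 : (1 : Coord G) ∈ J := hJ ▸ Submodule.mem_top
  rw [Submodule.mem_colon_singleton, smul_eq_mul, _root_.one_mul] at h1
  obtain ⟨f, hf⟩ := Ideal.mem_span_singleton'.mp h1
  have hfinv : f ∈ invAlg i := mem_invAlg_of_mul i ha (b := b) (by rw [mul_comm]; exact hf.symm)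
  apply p.2.ne_top
  rw [Ideal.eq_top_iff_one, hmem, _root_.one_mul]
  exact Ideal.mem_span_singleton'.mpr ⟨⟨f, hfinv⟩, Subtype.ext hf⟩

end Groth.Agent.AGFHull
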